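import Mathlib
import Cfsg.Agent.FastGrp
import Cfsg.Agent.Prune
set_option linter.all false
prune_inst 0x7f00000000000000000000000000000000000000000000000000000000000000000000000000000000000000000000000000000000000000000000000000000000000000000000000000000000000000003fffffffffffffffffffffffffffbeffbdffffffff
open scoped Cfsg.Agent.FastGrp

/-!
# Strong pairs, exceptional groups with abelian Sylow subgroups: group theory (helper790, S2274)

* `card_cent_modEq` : fixed points of a `p`-group normalising `V`;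
* `omega_cyc` : `P` homocyclic of exponent `p ^ s`, `|P : H| ≤ p ^ s`: `Ω₁(P) H / H` is cyclic;
* `exists_sylow_of` : a Sylow subgroup of a subgroup in a Sylow subgroup.
-/

set_option autoImplicit false

namespace Cfsg.Agent.H790.Str

open Subgroup

variable {G : Type*} [Group G] [Finite G] {p : ℕ} [hp : Fact p.Prime]

/-- The fixed points of a `p`-group normalising `V`. -/
theorem card_cent_modEq {H V : Subgroup G} (hH : IsPGroup p H) (hN : H ≤ normalizer (V : Set G)) :
    Nat.card ↥(V ⊓ centralizer (H : Set G)) ≡ Nat.card V [MOD p] := by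
  classical
  let act : MulAction H V :=
    { smul := fun z v => ⟨(z : G) * v * (z : G)⁻¹, (mem_normalizer_iff.1 (hN z.2) _).1 v.2⟩
      one_smul := fun v => Subtype.ext (by show (1 : G) * v * (1 : G)⁻¹ = v; group)
      mul_smul := fun a b v => Subtype.ext (by
        show ((a * b : H) : G) * v * ((a * b : H) : G)⁻¹ = a * (b * v * (b : G)⁻¹) * (a : G)⁻¹
        rw [coe_mul]; group) }
  have h1 := hH.card_modEq_card_fixedPoints V
  have h2 : Nat.card ↥(V ⊓ centralizer (H : Set G)) = Nat.card (MulAction.fixedPoints H V) := by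
    refine Nat.card_congr
      { toFun := fun v => ⟨⟨v, v.2.1⟩, fun z => Subtype.ext ?_⟩
        invFun := fun v => ⟨v.1, v.1.2, ?_⟩
        left_inv := fun v => rfl
        right_inv := fun v => rfl }
    · show (z : G) * v * (z : G)⁻¹ = v
      have h3 := mem_centralizer_iff.1 v.2.2 z z.2
      rw [h3, mul_inv_cancel_right]
    · intro z hz
      have h3 := congrArg (fun w : V => (w : G)) (v.2 ⟨z, hz⟩)
      have h4 : z * (v.1 : G) * z⁻¹ = v.1 := h3
      calc z * (v.1 : G) = z * (v.1 : G) * z⁻¹ * z := by group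
        _ = _ := by rw [h4]
  rw [h2]
  exact h1.symm

omit [Finite G] in
/-- in `ℤ / p ^ s` the elements killed by `p` are multiples of `p ^ (s - 1)` -/
theorem zmod_aux {s : ℕ} (hs : s ≠ 0) (c : ZMod (p ^ s)) (hc : (p : ZMod (p ^ s)) * c = 0) :
    ∃ d : ZMod (p ^ s), c = ((p ^ (s - 1) : ℕ) : ZMod (p ^ s)) * d := by
  have : NeZero (p ^ s) := ⟨pow_ne_zero _ hp.out.ne_zero⟩
  have h1 : c = ((c.val : ℕ) : ZMod (p ^ s)) := (ZMod.natCast_zmod_val c).symm
  have h2 : ((p * c.val : ℕ) : ZMod (p ^ s)) = 0 := by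
    rw [Nat.cast_mul, ← h1, hc]
  rw [ZMod.natCast_eq_zero_iff] at h2
  have h4 : p ^ s = p * p ^ (s - 1) := by rw [← pow_succ']; congr 1; omega
  have h2' : p * p ^ (s - 1) ∣ p * c.val := h4 ▸ h2
  have h3 : p ^ (s - 1) ∣ c.val := Nat.dvd_of_mul_dvd_mul_left hp.out.pos h2'
  obtain ⟨d, hd⟩ := h3
  refine ⟨(d : ZMod (p ^ s)), ?_⟩
  rw [← Nat.cast_mul, ← hd]
  exact h1

/-- **`Ω₁(P) H / H` is cyclic** if `P` is homocyclic of exponent `p ^ s` and `|P : H| ≤ p ^ s`. -/
theorem omega_cyc {P H : Subgroup G} {k s : ℕ}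
    (e : ↥P ≃* (Fin k → Multiplicative (ZMod (p ^ s)))) (hidx : H.relIndex P ≤ p ^ s) {z w : G} (hz : z ∈ P)
    (hw : w ∈ P) (hzp : z ^ p = 1) (hwp : w ^ p = 1) (hzH : z ∉ H) : ∃ n : ℕ, z ^ n * w ∈ H := by
  classical
  have hcomm : ∀ a b : ↥P, a * b = b * a := by
    intro a b
    apply e.injective
    rw [map_mul, map_mul, mul_comm]
  let _ : CommGroup ↥P := { (inferInstance : Group ↥P) with mul_comm := hcomm }
  set K : Subgroup ↥P := H.subgroupOf P with hK
  have hKn : K.Normal := inferInstance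
  have hs : s ≠ 0 := by
    rintro rfl
    have h1 : e ⟨z, hz⟩ = 1 := by
      funext i
      rw [pow_zero] at e
      exact Subsingleton.elim (α := ZMod 1) _ _
    have h2 : (⟨z, hz⟩ : ↥P) = 1 := by
      rw [← map_one e] at h1
      exact e.injective h1
    have h3 : z = 1 := congrArg Subtype.val h2
    exact hzH (h3 ▸ one_mem H)
  -- a root of `z`
  obtain ⟨Z, hZ⟩ : ∃ Z : ↥P, Z ^ p ^ (s - 1) = ⟨z, hz⟩ := by
    have h1 : (e ⟨z, hz⟩) ^ p = 1 := by
      rw [← map_pow]
      have : (⟨z, hz⟩ : ↥P) ^ p = 1 := Subtype.ext hzp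
      rw [this, map_one]
    have h2 : ∀ i, ∃ d : ZMod (p ^ s), Multiplicative.toAdd (e ⟨z, hz⟩ i) = ((p ^ (s - 1) : ℕ) : ZMod (p ^ s)) * d := by
      intro i
      refine zmod_aux hs _ ?_
      have h3 := congrArg Multiplicative.toAdd (congrFun h1 i)
      rw [Pi.pow_apply, toAdd_pow, Pi.one_apply, toAdd_one, nsmul_eq_mul] at h3
      exact h3
    choose d hd using h2
    refine ⟨e.symm (fun i => Multiplicative.ofAdd (d i)), ?_⟩
    apply e.injective
    rw [map_pow, e.apply_symm_apply]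
    funext i
    apply Multiplicative.toAdd.injective
    rw [hd i, Pi.pow_apply, toAdd_pow, toAdd_ofAdd, nsmul_eq_mul]
  set ζ : ↥P ⧸ K := QuotientGroup.mk Z with hζ
  have h1 : ζ ^ p ^ (s - 1) = QuotientGroup.mk ⟨z, hz⟩ := by rw [hζ, ← QuotientGroup.mk_pow, hZ]
  have h2 : ζ ^ p ^ (s - 1) ≠ 1 := by
    rw [h1, Ne, QuotientGroup.eq_one_iff]
    exact fun h => hzH (mem_subgroupOf.1 h)
  have h3 : ζ ^ p ^ s = 1 := by
    have h4 : p ^ s = p ^ (s - 1) * p := by rw [← pow_succ]; congr 1; omega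
    rw [h4, pow_mul, h1, ← QuotientGroup.mk_pow]
    have : (⟨z, hz⟩ : ↥P) ^ p = 1 := Subtype.ext hzp
    rw [this]; rfl
  have hord : orderOf ζ = p ^ s := by
    obtain ⟨t, rfl⟩ := Nat.exists_eq_succ_of_ne_zero hs
    rw [Nat.succ_eq_add_one] at h2 h3 ⊢
    exact orderOf_eq_prime_pow (by rwa [Nat.add_sub_cancel] at h2) h3
  have hcard : Nat.card (↥P ⧸ K) = p ^ s := by
    refine le_antisymm hidx ?_
    rw [← hord]
    exact Nat.le_of_dvd Nat.card_pos (orderOf_dvd_natCard ζ)
  have hgen : Subgroup.zpowers ζ = ⊤ := by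
    rw [← Subgroup.card_eq_iff_eq_top, Nat.card_zpowers, hord, hcard]
  obtain ⟨m, hm⟩ : ∃ m : ℕ, ζ ^ m = QuotientGroup.mk ⟨w, hw⟩ := by
    have h4 : (QuotientGroup.mk ⟨w, hw⟩ : ↥P ⧸ K) ∈ Subgroup.zpowers ζ := by rw [hgen]; trivial
    rw [← mem_powers_iff_mem_zpowers] at h4
    exact h4
  have h5 : ζ ^ (m * p) = 1 := by
    rw [pow_mul, hm, ← QuotientGroup.mk_pow]
    have : (⟨w, hw⟩ : ↥P) ^ p = 1 := Subtype.ext hwp
    rw [this]; rfl
  have h6 : p ^ (s - 1) ∣ m := by
    have h7 := orderOf_dvd_of_pow_eq_one h5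
    rw [hord] at h7
    have h4 : p ^ s = p ^ (s - 1) * p := by rw [← pow_succ]; congr 1; omega
    rw [h4] at h7
    exact Nat.dvd_of_mul_dvd_mul_right hp.out.pos h7
  obtain ⟨m', rfl⟩ := h6
  refine ⟨(p - 1) * m', ?_⟩
  have h7 : (QuotientGroup.mk ((⟨z, hz⟩ : ↥P) ^ ((p - 1) * m') * ⟨w, hw⟩) : ↥P ⧸ K) = 1 := by
    rw [QuotientGroup.mk_mul, QuotientGroup.mk_pow, ← h1, ← hm, ← pow_mul, ← pow_add]
    have h8 : p ^ (s - 1) * ((p - 1) * m') + p ^ (s - 1) * m' = p ^ s * m' := by
      have h4 : p ^ s = p ^ (s - 1) * p := by rw [← pow_succ]; congr 1; omega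
      have h9 : (p - 1) * m' + m' = p * m' := by
        obtain ⟨t, ht⟩ := Nat.exists_eq_succ_of_ne_zero hp.out.ne_zero
        rw [ht, Nat.succ_sub_one, Nat.succ_mul]
      rw [h4, ← mul_add, h9, mul_assoc]
    rw [h8, pow_mul, h3, one_pow]
  rw [QuotientGroup.eq_one_iff] at h7
  exact mem_subgroupOf.1 h7

omit [Finite G] in
/-- elements of the same order in a cyclic group -/
theorem cyc_mem {C : Type*} [Group C] [Finite C] (hc : IsCyclic C) {r : ℕ} (hr : 0 < r) {u v : C} (hu : u ^ r = 1)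
    (hv : orderOf v = r) : u ∈ Subgroup.zpowers v := by
  classical
  have : Fintype C := Fintype.ofFinite C
  have h1 := IsCyclic.card_pow_eq_one_le (α := C) hr
  have h2 : (Finset.univ.filter fun a : C => a ∈ Subgroup.zpowers v) ⊆ Finset.univ.filter fun a : C => a ^ r = 1 := by
    intro a ha
    rw [Finset.mem_filter] at ha ⊢
    obtain ⟨m, rfl⟩ := Subgroup.mem_zpowers_iff.1 ha.2
    refine ⟨Finset.mem_univ _, ?_⟩
    rw [← zpow_natCast, ← zpow_mul, mul_comm, zpow_mul, zpow_natCast, ← hv, pow_orderOf_eq_one, one_zpow]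
  have h3 : (Finset.univ.filter fun a : C => a ∈ Subgroup.zpowers v).card = r := by
    rw [← hv, ← Nat.card_zpowers, Nat.card_eq_fintype_card, Fintype.card_subtype]
  have h4 := Finset.eq_of_subset_of_card_le h2 (by rw [h3]; exact h1)
  have h5 : u ∈ Finset.univ.filter fun a : C => a ^ r = 1 := by
    rw [Finset.mem_filter]; exact ⟨Finset.mem_univ _, hu⟩
  rw [← h4, Finset.mem_filter] at h5
  exact h5.2

/-- A Sylow subgroup of a subgroup in a Sylow subgroup. -/
theorem exists_sylow_of (M : Subgroup G) : ∃ (P : Sylow p G) (H : Subgroup G), H ≤ (P : Subgroup G) ∧ H ≤ M ∧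
    IsPGroup p H ∧ H.relIndex (P : Subgroup G) = p ^ padicValNat p M.index := by
  obtain ⟨Q⟩ : Nonempty (Sylow p M) := inferInstance
  set H : Subgroup G := (Q : Subgroup M).map M.subtype with hH
  have hHp : IsPGroup p H := Q.isPGroup'.map _
  have hHc : Nat.card H = p ^ (Nat.card M).factorization p := by
    rw [hH, Nat.card_congr ((Q : Subgroup M).equivMapOfInjective M.subtype M.subtype_injective).toEquiv.symm]
    exact Q.card_eq_multiplicity
  obtain ⟨P, hP⟩ := hHp.exists_le_sylow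
  refine ⟨P, H, hP, map_subtype_le _, hHp, ?_⟩
  have h1 : Nat.card H * H.relIndex (P : Subgroup G) = Nat.card (P : Subgroup G) := by
    have h2 := Subgroup.card_mul_index (H.subgroupOf (P : Subgroup G))
    rwa [Nat.card_congr (Subgroup.subgroupOfEquivOfLe hP).toEquiv] at h2
  have h2 : Nat.card G = M.index * Nat.card M := (Subgroup.index_mul_card M).symm
  rw [hHc, P.card_eq_multiplicity, h2, Nat.factorization_mul M.index_ne_zero_of_finite Nat.card_pos.ne',
    Finsupp.add_apply, pow_add, mul_comm (p ^ M.index.factorization p)] at h1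
  have h3 := Nat.eq_of_mul_eq_mul_left (pow_pos hp.out.pos _) h1
  rw [h3, Nat.factorization_def _ hp.out]

end Cfsg.Agent.H790.Str
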